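import Cfsg.Agent.SystemNormalizer.Carter

/-!
Carter subgroups contain system normalizers; in nilpotent-by-nilpotent groups they coincide.
-/

open Pointwise

namespace CfsgLib.SystemNormalizer

universe u

variable {G : Type u} [Group G] [Finite G]

/-- The complement system `K` reduces into `C`. -/
def Reduces (K : Nat.Primes → Subgroup G) (C : Subgroup G) : Prop :=
  ∀ p : Nat.Primes, ∀ q : ℕ, q.Prime → q ∣ (K p).relIndex C → q = p

omit [Finite G] in
theorem relIndex_map_dvd {G' : Type*} [Group G'] (f : G →* G') (X C : Subgroup G) :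
    (X.map f).relIndex (C.map f) ∣ X.relIndex C := by
  refine dvd_trans ?_ (Subgroup.index_map_dvd (X.subgroupOf C) (f.subgroupMap_surjective C))
  refine Subgroup.index_dvd_of_le ?_
  rintro _ ⟨x, hx, rfl⟩
  exact Subgroup.mem_map_of_mem _ hx

theorem reduces_normal {K : Nat.Primes → Subgroup G} (hK : Cfsg.IsComplementSystem K)
    (N : Subgroup G) [N.Normal] : Reduces K N := fun p q hq h => by
  have h1 := h.trans (relIndex_dvd_index_right _ _)
  rw [hK p] at h1
  exact (Nat.prime_dvd_prime_iff_eq hq p.2).mp (hq.dvd_of_dvd_pow h1)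

omit [Finite G] in
theorem reduces_subgroupOf {K : Nat.Primes → Subgroup G} {C H : Subgroup G} (h : Reduces K C)
    (hCH : C ≤ H) : Reduces (fun p => (K p).subgroupOf H) (C.subgroupOf H) := fun p q hq hd =>
  h p q hq (by rwa [Subgroup.relIndex_subgroupOf hCH] at hd)

theorem reduces_sup {K : Nat.Primes → Subgroup G} (hK : Cfsg.IsComplementSystem K)
    {C N : Subgroup G} [N.Normal] {p : ℕ} (hp : p.Prime) (hN : IsPGroup p N) (h : Reduces K C) :
    Reduces K (C ⊔ N) := by
  intro r q hq hd
  set M := (C ⊓ K r) ⊔ N with hM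
  have hMle : M ≤ C ⊔ N := sup_le_sup_right inf_le_left N
  have h1 : q ∣ (K r ⊓ M).relIndex M * M.relIndex (C ⊔ N) := by
    rw [Subgroup.relIndex_mul_relIndex _ _ _ inf_le_right hMle]
    exact hd.trans (Subgroup.relIndex_dvd_of_le_left _ inf_le_left)
  rcases hq.dvd_mul.mp h1 with h2 | h2
  · rw [Subgroup.inf_relIndex_right] at h2
    have := Fact.mk hp
    by_cases hpr : p = (r : ℕ)
    · have h3 : Nat.card M ∣ Nat.card ↥(K r ⊓ M) * Nat.card N := by
        have h4 := (N.subgroupOf M).index_mul_card
        rw [Nat.card_congr (Subgroup.subgroupOfEquivOfLe (le_sup_right : N ≤ M)).toEquiv,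
          ← Subgroup.relIndex, hM, Subgroup.relIndex_sup_right] at h4
        rw [hM, ← h4]
        refine mul_dvd_mul_right ((Subgroup.relIndex_dvd_card _ _).trans ?_) _
        exact Subgroup.card_dvd_of_le (le_inf inf_le_right le_sup_left)
      have h5 := ((K r ⊓ M).subgroupOf M).card_mul_index
      rw [Nat.card_congr (Subgroup.subgroupOfEquivOfLe (inf_le_right : K r ⊓ M ≤ M)).toEquiv,
        ← Subgroup.relIndex, Subgroup.inf_relIndex_right] at h5
      rw [← h5] at h3
      obtain ⟨k, hk⟩ := hN.exists_card_eq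
      have h6 := h2.trans (Nat.dvd_of_mul_dvd_mul_left Nat.card_pos h3)
      rw [hk] at h6
      rw [← hpr]
      exact (Nat.prime_dvd_prime_iff_eq hq hp).mp (hq.dvd_of_dvd_pow h6)
    · have hNK : N ≤ K r := Solvable.le_isPiHall_of_normal (isPiHall_compl hK r)
        (Solvable.piNat_of_isPGroup hp hpr hN)
      rw [Subgroup.relIndex_eq_one.mpr (sup_le inf_le_right hNK : M ≤ K r), Nat.dvd_one] at h2
      exact absurd h2 hq.ne_one
  · refine h r q hq (h2.trans ?_)
    have h7 : M.relIndex (C ⊔ N) =
        ((C ⊓ K r).map (QuotientGroup.mk' N)).relIndex (C.map (QuotientGroup.mk' N)) := by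
      rw [Subgroup.relIndex_map_map, QuotientGroup.ker_mk']
    rw [h7]
    refine (relIndex_map_dvd _ _ _).trans ?_
    rw [Subgroup.inf_relIndex_left]

theorem exists_reduces [Group.IsSolvable G] {C : Subgroup G} :
    ∃ K : Nat.Primes → Subgroup G, Cfsg.IsComplementSystem K ∧ Reduces K C := by
  have h : ∀ p : Nat.Primes, ∃ H : Subgroup G, Cfsg.IsPiHall (compl p) H ∧
      ∀ q : ℕ, q.Prime → q ∣ H.relIndex C → q = p := by
    intro p
    obtain ⟨Q, hQ⟩ := Solvable.exists_isPiHall (compl p) C
    obtain ⟨H, hH, hle⟩ := Solvable.exists_isPiHall_ge (G := G) (π := compl p)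
      (U := Q.map C.subtype) (by
        unfold Cfsg.IsPiSubgroup
        rw [Subgroup.card_map_of_injective C.subtype_injective]
        exact hQ.1)
    refine ⟨H, hH, fun q hq hd => by_contra fun hne => hQ.2 q hq hne (hd.trans ?_)⟩
    refine Subgroup.index_dvd_of_le fun x hx => ?_
    exact hle (Subgroup.mem_map_of_mem _ hx)
  choose K hK hK' using h
  exact ⟨K, fun p => index_of_isPiHall p.2 (hK p), hK'⟩

omit [Finite G] in
private theorem le_carter_aux : ∀ (n : ℕ) (G : Type u) [Group G] [Finite G] [Group.IsSolvable G],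
    Nat.card G < n → ∀ (C : Subgroup G) (K : Nat.Primes → Subgroup G),
      Cfsg.IsCarterSubgroup C → Cfsg.IsComplementSystem K → Reduces K C →
      Cfsg.systemNormalizer K ≤ C := by
  intro n
  induction n with
  | zero => intro G _ _ _ h; exact absurd h (Nat.not_lt_zero _)
  | succ n ih =>
    intro G _ _ _ hn C K hC hK hred
    rcases subsingleton_or_nontrivial G with hs | hs
    · exact (Subsingleton.elim _ _ : Cfsg.systemNormalizer K = C).le
    obtain ⟨N, hN, hne, hmin⟩ := Solvable.exists_minimal_normal (G := G)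
    have := Solvable.isMulCommutative_of_minimal_normal hne hmin
    obtain ⟨p, hp, hNp⟩ := Solvable.exists_isPGroup_of_minimal_normal hne hmin
    have hq : Nat.card (G ⧸ N) < n := by
      refine lt_of_lt_of_le ?_ (Nat.lt_succ_iff.mp hn)
      rw [N.card_eq_card_quotient_mul_card_subgroup]
      exact (Nat.lt_mul_iff_one_lt_right Nat.card_pos).mpr
        (Subgroup.one_lt_card_iff_ne_bot N |>.mpr hne)
    set f := QuotientGroup.mk' N with hf
    have hfs : Function.Surjective f := QuotientGroup.mk'_surjective N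
    have hDH : Cfsg.systemNormalizer K ≤ C ⊔ N := by
      have h1 := ih (G ⧸ N) hq (C.map f) (fun r => (K r).map f) (isCarter_map hC N)
        (map_isComplementSystem hfs hK)
        (fun r q hq hd => hred r q hq (hd.trans (relIndex_map_dvd f _ _)))
      rw [hf, systemNormalizer_map hK N] at h1
      refine (Subgroup.le_comap_map f _).trans ((Subgroup.comap_mono h1).trans ?_)
      rw [Subgroup.comap_map_eq, hf, QuotientGroup.ker_mk']
    by_cases htop : C ⊔ N = ⊤
    · by_cases hCt : C = ⊤
      · rw [hCt]; exact le_top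
      have hQC : Cfsg.IsPiHall (compl p) ((K ⟨p, hp⟩ ⊓ C).subgroupOf C) :=
        ⟨fun r hr hd => (isPiHall_compl hK ⟨p, hp⟩).1 r hr (hd.trans (by
            rw [Nat.card_congr (Subgroup.subgroupOfEquivOfLe inf_le_right).toEquiv]
            exact Subgroup.card_dvd_of_le inf_le_left)),
          fun r hr hrc hd => hrc (hred ⟨p, hp⟩ r hr (by
            rwa [← Subgroup.relIndex, Subgroup.inf_relIndex_right] at hd))⟩
      obtain ⟨hQ, hQn⟩ := carter_step hp hNp hmin hC htop hCt inf_le_right hQC
      rw [← hQn, Solvable.eq_of_isPiHall_le hQ (isPiHall_compl hK ⟨p, hp⟩).1 inf_le_left]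
      exact iInf_le _ _
    · have hlt : Nat.card (C ⊔ N : Subgroup G) < n :=
        lt_of_lt_of_le (lt_of_le_of_ne (Nat.le_of_dvd Nat.card_pos
          (C ⊔ N).card_subgroup_dvd_card)
          fun e => htop (Subgroup.eq_top_of_card_eq _ e)) (Nat.lt_succ_iff.mp hn)
      have hKH : Cfsg.IsComplementSystem fun r => (K r).subgroupOf (C ⊔ N) := fun r => by
        refine index_of_isPiHall r.2 ⟨fun q hq hd => ?_, fun q hq hqc hd => ?_⟩
        · refine (isPiHall_compl hK r).1 q hq (hd.trans ?_)
          change Nat.card ((K r).subgroupOf (C ⊔ N)) ∣ _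
          rw [← Subgroup.inf_subgroupOf_right,
            Nat.card_congr (Subgroup.subgroupOfEquivOfLe inf_le_right).toEquiv]
          exact Subgroup.card_dvd_of_le inf_le_left
        · exact hqc (reduces_sup hK hp hNp hred r q hq hd)
      have h1 := ih _ hlt (C.subgroupOf (C ⊔ N)) _ (isCarter_subgroupOf hC le_sup_left) hKH
        (reduces_subgroupOf hred le_sup_left)
      intro d hd
      have h2 : (⟨d, hDH hd⟩ : ↥(C ⊔ N)) ∈
          Cfsg.systemNormalizer fun r => (K r).subgroupOf (C ⊔ N) :=
        mem_systemNormalizer.mpr fun r =>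
          Subgroup.le_normalizer_comap (C ⊔ N).subtype (mem_systemNormalizer.mp hd r)
      exact h1 h2

/-- A Carter subgroup contains the normalizer of every system reducing into it. -/
theorem le_carter [Group.IsSolvable G] {C : Subgroup G} {K : Nat.Primes → Subgroup G}
    (hC : Cfsg.IsCarterSubgroup C) (hK : Cfsg.IsComplementSystem K) (h : Reduces K C) :
    Cfsg.systemNormalizer K ≤ C :=
  le_carter_aux _ G (Nat.lt_succ_self _) C K hC hK h

omit [Finite G] in
theorem systemNormalizer_conj (K : Nat.Primes → Subgroup G) (g : G) :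
    Cfsg.systemNormalizer (fun p => MulAut.conj g • K p) =
      MulAut.conj g • Cfsg.systemNormalizer K := by
  ext x
  rw [Solvable.mem_conj_smul, mem_systemNormalizer, mem_systemNormalizer]
  refine forall_congr' fun p => ?_
  rw [Solvable.mem_normalizer_iff_conj_smul, Solvable.mem_normalizer_iff_conj_smul, mul_assoc,
    map_mul, map_mul, mul_smul, mul_smul, map_inv, inv_smul_eq_iff]

theorem isComplementSystem_conj {K : Nat.Primes → Subgroup G} (hK : Cfsg.IsComplementSystem K)
    (g : G) : Cfsg.IsComplementSystem fun p => MulAut.conj g • K p := fun p =>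
  (Solvable.index_conj_smul g (K p)).trans (hK p)

/-- In a nilpotent-by-nilpotent group a system normalizer is self-normalizing. -/
theorem isCarter_systemNormalizer [Group.IsSolvable G] {F : Subgroup G} [F.Normal]
    (hF : Group.IsNilpotent F) (hGF : Group.IsNilpotent (G ⧸ F)) {K : Nat.Primes → Subgroup G}
    (hK : Cfsg.IsComplementSystem K) : Cfsg.IsCarterSubgroup (Cfsg.systemNormalizer K) := by
  refine ⟨isNilpotent hK, le_antisymm (fun g hg => ?_) Subgroup.le_normalizer⟩
  refine mem_systemNormalizer.mpr fun p => ?_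
  set R := K p ⊓ F with hR
  have hRF := Solvable.isPiHall_inf_normal (L := F) (isPiHall_compl hK p)
  have hRn : R.Normal := by
    have hn : (R.subgroupOf F).Normal := normal_of_isPiHall_nilpotent hRF
    rw [← Subgroup.normalizer_eq_top_iff, eq_top_iff]
    intro x _
    rw [Solvable.mem_normalizer_iff_conj_smul]
    have hle : MulAut.conj x • R ≤ F := by
      conv_rhs => rw [← Subgroup.Normal.conj_smul_eq_self x F]
      exact Subgroup.pointwise_smul_le_pointwise_smul_iff.mpr inf_le_right
    have hx : Cfsg.IsPiHall (compl p) ((MulAut.conj x • R).subgroupOf F) := by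
      have hc : Nat.card ((MulAut.conj x • R).subgroupOf F) = Nat.card (R.subgroupOf F) := by
        rw [Nat.card_congr (Subgroup.subgroupOfEquivOfLe hle).toEquiv, Solvable.card_conj_smul,
          Nat.card_congr (Subgroup.subgroupOfEquivOfLe inf_le_right).toEquiv]
      refine ⟨hc ▸ hRF.1, fun q hq hqc hd => hRF.2 q hq hqc ?_⟩
      have h1 := ((MulAut.conj x • R).subgroupOf F).card_mul_index
      rw [← (R.subgroupOf F).card_mul_index, hc] at h1
      rwa [← Nat.eq_of_mul_eq_mul_left Nat.card_pos h1]
    refine eq_of_le_of_card_conj fun y hy => ?_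
    exact Solvable.le_isPiHall_of_normal hx hRF.1 (show (⟨y, hy.2⟩ : F) ∈ R.subgroupOf F from hy)
  set f := QuotientGroup.mk' R with hf
  have hfs : Function.Surjective f := QuotientGroup.mk'_surjective R
  -- the members for the other primes are normal modulo `R`
  have hnorm : ∀ r : Nat.Primes, r ≠ p → ((K r).map f).Normal := by
    intro r hr
    have := Fact.mk p.2
    obtain ⟨P⟩ : Nonempty (Sylow (p : ℕ) G) := inferInstance
    have hPF : ((P : Subgroup G) ⊔ F).Normal := by
      have hP : Cfsg.IsPiHall {(p : ℕ)} (P : Subgroup G) :=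
        ⟨Solvable.piNat_of_isPGroup p.2 (Set.mem_singleton _) P.2,
          fun q _ hqπ hd => P.not_dvd_index ((Set.mem_singleton_iff.mp hqπ) ▸ hd)⟩
      have h1 : ((P : Subgroup G).map (QuotientGroup.mk' F)).Normal :=
        normal_of_isPiHall_nilpotent (Solvable.isPiHall_map (QuotientGroup.mk'_surjective F) hP)
      have h2 := h1.comap (QuotientGroup.mk' F)
      rwa [Subgroup.comap_map_eq, QuotientGroup.ker_mk'] at h2
    have hFPR : F ≤ (P : Subgroup G) ⊔ R := by
      refine Subgroup.relIndex_eq_one.mp (Nat.eq_one_of_dvd_coprimes ?_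
        ((Subgroup.relIndex_dvd_of_le_left F le_sup_left).trans
          (relIndex_dvd_index_right (P : Subgroup G) F))
        (Subgroup.relIndex_dvd_of_le_left F (le_sup_right : R ≤ (P : Subgroup G) ⊔ R)))
      refine (Nat.coprime_of_dvd fun q hq h1 h2 => ?_)
      have hqp : q = p := by
        refine by_contra fun hne => hRF.2 q hq hne ?_
        rwa [Subgroup.relIndex, hR] at h2
      exact P.not_dvd_index (hqp ▸ h1)
    have hPR : (P : Subgroup G) ⊔ R = (P : Subgroup G) ⊔ F :=
      le_antisymm (sup_le_sup_left inf_le_right _) (sup_le le_sup_left hFPR)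
    have hPbar : ((P : Subgroup G).map f).Normal := by
      have h1 : (((P : Subgroup G) ⊔ R).map f).Normal := hPR ▸ hPF.map f hfs
      rwa [Subgroup.map_sup, hf, QuotientGroup.map_mk'_self, sup_bot_eq] at h1
    have hPK : (P : Subgroup G).map f ≤ (K r).map f :=
      Solvable.le_isPiHall_of_normal (Solvable.isPiHall_map hfs (isPiHall_compl hK r))
        (Solvable.piNat_of_isPGroup (π := compl r) p.2 (fun h => hr (Subtype.ext h).symm) (P.2.map f))
    have hFK : F ≤ K r ⊔ R := by
      refine hFPR.trans ?_
      refine (Subgroup.le_comap_map f _).trans ?_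
      rw [Subgroup.map_sup, hf, QuotientGroup.map_mk'_self, sup_bot_eq]
      refine (Subgroup.comap_mono hPK).trans ?_
      rw [Subgroup.comap_map_eq, QuotientGroup.ker_mk']
    have hKF : (K r ⊔ F).Normal := by
      have h1 : ((K r).map (QuotientGroup.mk' F)).Normal :=
        normal_of_isPiHall_nilpotent (Solvable.isPiHall_map
          (QuotientGroup.mk'_surjective F) (isPiHall_compl hK r))
      have h2 := h1.comap (QuotientGroup.mk' F)
      rwa [Subgroup.comap_map_eq, QuotientGroup.ker_mk'] at h2
    have hKR : K r ⊔ R = K r ⊔ F :=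
      le_antisymm (sup_le_sup_left inf_le_right _) (sup_le le_sup_left hFK)
    have h1 : ((K r ⊔ R).map f).Normal := hKR ▸ hKF.map f hfs
    rwa [Subgroup.map_sup, hf, QuotientGroup.map_mk'_self, sup_bot_eq] at h1
  have hbar : (Cfsg.systemNormalizer K).map f =
      Subgroup.normalizer (((K p).map f : Subgroup (G ⧸ R)) : Set (G ⧸ R)) := by
    rw [hf, ← systemNormalizer_map hK R]
    refine le_antisymm (iInf_le _ p) (le_iInf fun r => ?_)
    by_cases hr : r = p
    · rw [hr]
    · rw [Subgroup.normalizer_eq_top_iff.mpr (hnorm r hr)]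
      exact le_top
  have hgbar : f g ∈ Subgroup.normalizer (((K p).map f : Subgroup (G ⧸ R)) : Set (G ⧸ R)) := by
    rw [← hall_normalizer_self (Solvable.isPiHall_map hfs (isPiHall_compl hK p)), ← hbar]
    exact Subgroup.le_normalizer_map _ (Subgroup.mem_map_of_mem _ hg)
  rw [Solvable.mem_normalizer_iff_conj_smul] at hgbar ⊢
  rw [← Solvable.map_conj_smul] at hgbar
  refine Subgroup.eq_of_le_of_card_ge ?_ (Solvable.card_conj_smul g (K p)).ge
  refine (Subgroup.le_comap_map f _).trans ?_
  rw [hgbar, Subgroup.comap_map_eq, hf, QuotientGroup.ker_mk']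
  exact sup_le le_rfl inf_le_left

end CfsgLib.SystemNormalizer
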