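import Cfsg.Prelude.Def_SolvableStructure
import Cfsg.Agent.Solvable.Hall
import Cfsg.Agent.Solvable.Nilpotent
import Cfsg.Agent.S0007

/-!
Hall complement systems and system normalizers of finite solvable groups.
-/

open Pointwise

namespace CfsgLib.SystemNormalizer

variable {G : Type*} [Group G]

/-- The set of primes different from `p`. -/
def compl (p : ℕ) : Set ℕ := {q | q ≠ p}

theorem isPiHall_of_index [Finite G] {p : ℕ} (hp : p.Prime) {K : Subgroup G}
    (h : K.index = p ^ (Nat.card G).factorization p) : Cfsg.IsPiHall (compl p) K := by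
  refine ⟨fun q hq hqK hqp => ?_, fun q hq hqc hqi => ?_⟩
  · subst hqp
    refine Nat.pow_succ_factorization_not_dvd (Nat.card_pos (α := G)).ne' hp ?_
    calc q ^ ((Nat.card G).factorization q + 1)
        = q * q ^ (Nat.card G).factorization q := pow_succ' _ _
      _ ∣ Nat.card K * K.index := h ▸ Nat.mul_dvd_mul hqK dvd_rfl
      _ = Nat.card G := K.card_mul_index
  · rw [h] at hqi
    exact hqc ((Nat.prime_dvd_prime_iff_eq hq hp).mp (hq.dvd_of_dvd_pow hqi))

theorem index_of_isPiHall [Finite G] {p : ℕ} (hp : p.Prime) {K : Subgroup G}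
    (h : Cfsg.IsPiHall (compl p) K) : K.index = p ^ (Nat.card G).factorization p := by
  have h1 : K.index = p ^ K.index.primeFactorsList.length :=
    Nat.eq_prime_pow_of_unique_prime_dvd Subgroup.index_ne_zero_of_finite
      fun {d} hd hdi => by_contra fun hne => h.2 d hd hne hdi
  have h2 : (Nat.card K).factorization p = 0 :=
    Nat.factorization_eq_zero_of_not_dvd fun hdvd => h.1 p hp hdvd rfl
  conv_rhs => rw [← K.card_mul_index, Nat.factorization_mul Nat.card_pos.ne'
    Subgroup.index_ne_zero_of_finite, Finsupp.add_apply, h2, zero_add, h1,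
    hp.factorization_pow, Finsupp.single_eq_same]
  exact h1

theorem isPiHall_compl [Finite G] {K : Nat.Primes → Subgroup G} (hK : Cfsg.IsComplementSystem K)
    (p : Nat.Primes) : Cfsg.IsPiHall (compl p) (K p) :=
  isPiHall_of_index p.2 (hK p)

theorem eq_top_of_not_dvd [Finite G] {K : Nat.Primes → Subgroup G}
    (hK : Cfsg.IsComplementSystem K) {p : Nat.Primes} (h : ¬ (p : ℕ) ∣ Nat.card G) : K p = ⊤ := by
  rw [← Subgroup.index_eq_one, hK p, Nat.factorization_eq_zero_of_not_dvd h, pow_zero]

theorem exists_complementSystem [Finite G] [Group.IsSolvable G] :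
    ∃ K : Nat.Primes → Subgroup G, Cfsg.IsComplementSystem K := by
  choose K hK using fun p : Nat.Primes => Solvable.exists_isPiHall (compl p) G
  exact ⟨K, fun p => index_of_isPiHall p.2 (hK p)⟩

/-- The primes dividing the group order, as a `Finset Nat.Primes`. -/
noncomputable def primesOf (G : Type*) : Finset Nat.Primes :=
  ((Nat.card G).primeFactors.subtype Nat.Prime :)

theorem mem_primesOf [Finite G] {p : Nat.Primes} : p ∈ primesOf G ↔ (p : ℕ) ∣ Nat.card G :=
  Finset.mem_subtype.trans ⟨Nat.dvd_of_mem_primeFactors, fun h =>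
    Nat.mem_primeFactors.mpr ⟨p.2, h, Nat.card_pos.ne'⟩⟩

/-- Cosets of subgroups whose indices in `N` are powers of distinct primes meet. -/
theorem exists_common_coset [Finite G] (N : Subgroup G) (f : Nat.Primes → Subgroup G)
    (hf : ∀ p : Nat.Primes, ∀ q : ℕ, q.Prime → q ∣ (f p).relIndex N → q = p)
    (s : Finset Nat.Primes) :
    (∀ q : ℕ, q.Prime → q ∣ (s.inf f).relIndex N → ∃ p ∈ s, q = p) ∧
      ∀ x : Nat.Primes → G, (∀ p, x p ∈ N) → ∃ n ∈ N, ∀ p ∈ s, n⁻¹ * x p ∈ f p := by
  classical
  induction s using Finset.induction_on with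
  | empty =>
    refine ⟨fun q hq h => ?_, fun _ _ => ⟨1, N.one_mem, by simp⟩⟩
    rw [Finset.inf_empty, Subgroup.relIndex_top_left, Nat.dvd_one] at h
    exact absurd h hq.ne_one
  | insert a s ha ih =>
    have hcop : ((s.inf f).subgroupOf N).index.Coprime ((f a).subgroupOf N).index :=
      Nat.coprime_of_dvd fun q hq h1 h2 => by
        obtain ⟨p, hp, rfl⟩ := ih.1 q hq h1
        exact ha ((Subtype.ext (hf a _ hq h2) : p = a) ▸ hp)
    obtain ⟨hidx, hfac⟩ := Cfsg.Agent.S0007.result _ _ hcop
    refine ⟨fun q hq h => ?_, fun x hx => ?_⟩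
    · rw [Finset.inf_insert, Subgroup.relIndex, inf_comm, Subgroup.subgroupOf,
        Subgroup.comap_inf] at h
      rw [Subgroup.subgroupOf, Subgroup.subgroupOf] at hidx
      rw [hidx] at h
      rcases hq.dvd_mul.mp h with h' | h'
      · obtain ⟨p, hp, e⟩ := ih.1 q hq h'
        exact ⟨p, Finset.mem_insert_of_mem hp, e⟩
      · exact ⟨a, Finset.mem_insert_self a s, hf a q hq h'⟩
    · obtain ⟨n, hn, hns⟩ := ih.2 x hx
      obtain ⟨u, hu, v, hv, huv⟩ := hfac ⟨n⁻¹ * x a, mul_mem (inv_mem hn) (hx a)⟩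
      have huv' : n⁻¹ * x a = (u : G) * v := congrArg Subtype.val huv
      refine ⟨n * u, mul_mem hn u.2, fun p hp => ?_⟩
      rcases Finset.mem_insert.mp hp with rfl | hps
      · rw [mul_inv_rev, mul_assoc, huv', inv_mul_cancel_left]
        exact hv
      · rw [mul_inv_rev, mul_assoc]
        exact mul_mem (inv_mem ((Finset.inf_le (f := f) hps : s.inf f ≤ f p) hu)) (hns p hps)

theorem relIndex_dvd_index_right [Finite G] (H N : Subgroup G) [N.Normal] :
    H.relIndex N ∣ H.index := by
  have h1 := Subgroup.relIndex_mul_relIndex (H ⊓ N) H (N ⊔ H) inf_le_left le_sup_right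
  have h2 := Subgroup.relIndex_mul_relIndex (H ⊓ N) N (N ⊔ H) inf_le_right le_sup_left
  rw [Subgroup.inf_relIndex_left] at h1
  rw [Subgroup.inf_relIndex_right, Subgroup.relIndex_sup_left] at h2
  have h0 : N.relIndex H ≠ 0 := Subgroup.index_ne_zero_of_finite
  have h3 : H.relIndex (N ⊔ H) = H.relIndex N := by
    rw [← h2, mul_comm (H.relIndex N)] at h1
    exact Nat.eq_of_mul_eq_mul_left (Nat.pos_of_ne_zero h0) h1
  rw [← h3]
  exact ⟨_, (Subgroup.relIndex_mul_index (le_sup_right : H ≤ N ⊔ H)).symm⟩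

theorem relIndex_normalizer_prime [Finite G] {K : Nat.Primes → Subgroup G}
    (hK : Cfsg.IsComplementSystem K) (N : Subgroup G) [N.Normal] (p : Nat.Primes) (q : ℕ)
    (hq : q.Prime) (h : q ∣ (Subgroup.normalizer (K p : Set G)).relIndex N) : q = p := by
  have h1 := h.trans ((relIndex_dvd_index_right _ N).trans
    (Subgroup.index_dvd_of_le (Subgroup.le_normalizer (H := K p))))
  rw [hK p] at h1
  exact (Nat.prime_dvd_prime_iff_eq hq p.2).mp (hq.dvd_of_dvd_pow h1)

theorem conj_smul_eq_of_mem_normalizer {n x : G} {K : Subgroup G}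
    (h : n⁻¹ * x ∈ Subgroup.normalizer (K : Set G)) : MulAut.conj n • K = MulAut.conj x • K := by
  conv_rhs => rw [← mul_inv_cancel_left n x, map_mul, mul_smul,
    Solvable.mem_normalizer_iff_conj_smul.mp h]

/-- Complement systems are conjugate. -/
theorem exists_conj_eq [Finite G] [Group.IsSolvable G] {K L : Nat.Primes → Subgroup G}
    (hK : Cfsg.IsComplementSystem K) (hL : Cfsg.IsComplementSystem L) :
    ∃ g : G, ∀ p, MulAut.conj g • K p = L p := by
  choose x hx using fun p => Solvable.exists_conj_eq_isPiHall (isPiHall_compl hK p)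
    (isPiHall_compl hL p)
  obtain ⟨n, -, hn⟩ := (exists_common_coset ⊤ (fun p => Subgroup.normalizer (K p : Set G))
    (relIndex_normalizer_prime hK ⊤) (primesOf G)).2 x fun _ => trivial
  refine ⟨n, fun p => ?_⟩
  by_cases hp : p ∈ primesOf G
  · rw [conj_smul_eq_of_mem_normalizer (hn p hp), hx p]
  · rw [mem_primesOf] at hp
    rw [eq_top_of_not_dvd hK hp, eq_top_of_not_dvd hL hp]
    exact Subgroup.Normal.conj_smul_eq_self n ⊤

theorem mem_systemNormalizer {K : Nat.Primes → Subgroup G} {g : G} :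
    g ∈ Cfsg.systemNormalizer K ↔ ∀ p, g ∈ Subgroup.normalizer (K p : Set G) :=
  Subgroup.mem_iInf

theorem le_systemNormalizer_of_central {K : Nat.Primes → Subgroup G} {B : Subgroup G}
    (h : ⁅B, (⊤ : Subgroup G)⁆ = ⊥) : B ≤ Cfsg.systemNormalizer K := fun b hb =>
  mem_systemNormalizer.mpr fun p => Subgroup.centralizer_le_normalizer _
    (Subgroup.centralizer_le (Set.subset_univ _)
      (by rw [← Subgroup.coe_top]; exact Subgroup.commutator_eq_bot_iff_le_centralizer.mp h hb))

theorem isNilpotent [Finite G] [Group.IsSolvable G] {K : Nat.Primes → Subgroup G}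
    (hK : Cfsg.IsComplementSystem K) : Group.IsNilpotent (Cfsg.systemNormalizer K) := by
  classical
  set D := Cfsg.systemNormalizer K with hD
  refine (Group.isNilpotent_of_finite_tfae.out 0 3).mpr fun q hq Q => ?_
  obtain ⟨p, rfl⟩ : ∃ p : Nat.Primes, (p : ℕ) = q := ⟨⟨q, hq.out⟩, rfl⟩
  set P := ((primesOf G).erase p).inf K with hP
  have hPp : IsPGroup (p : ℕ) P := by
    rw [IsPGroup.iff_card]
    refine ⟨(Nat.card P).primeFactorsList.length,
      Nat.eq_prime_pow_of_unique_prime_dvd Nat.card_pos.ne' fun {d} hd hdP => ?_⟩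
    by_contra hne
    have hdG : d ∣ Nat.card G := hdP.trans P.card_subgroup_dvd_card
    have hmem : (⟨d, hd⟩ : Nat.Primes) ∈ (primesOf G).erase p :=
      Finset.mem_erase.mpr ⟨fun h => hne (congrArg Subtype.val h), mem_primesOf.mpr hdG⟩
    exact (isPiHall_compl hK ⟨d, hd⟩).1 d hd
      (hdP.trans (Subgroup.card_dvd_of_le (Finset.inf_le hmem))) rfl
  have hnot : ¬ (p : ℕ) ∣ P.index := by
    intro h
    rw [← Subgroup.relIndex_top_right] at h
    obtain ⟨r, hr, e⟩ := (exists_common_coset ⊤ K (fun r q hq h' => by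
      rw [Subgroup.relIndex_top_right, hK r] at h'
      exact (Nat.prime_dvd_prime_iff_eq hq r.2).mp (hq.dvd_of_dvd_pow h')) _).1 p p.2 h
    exact (Finset.mem_erase.mp hr).1 (Subtype.ext e).symm
  have hnorm : D ≤ Subgroup.normalizer (P : Set G) := by
    intro d hd
    rw [Solvable.mem_normalizer_iff_conj_smul]
    ext x
    rw [Solvable.mem_conj_smul, hP, Finset.inf_eq_iInf, Subgroup.mem_iInf]
    simp only [Subgroup.mem_iInf]
    refine forall_congr' fun r => forall_congr' fun _ => ?_
    rw [← Solvable.mem_conj_smul,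
      Solvable.mem_normalizer_iff_conj_smul.mp (mem_systemNormalizer.mp hd r)]
  have : Fact (p : ℕ).Prime := ⟨p.2⟩
  have hQ : (Q : Subgroup D) = P.subgroupOf D := by
    have hle : (Q : Subgroup D) ≤ P.subgroupOf D := by
      intro x hx
      have hxp : IsPGroup (p : ℕ) (Subgroup.zpowers (x : G)) := by
        refine (Q.2.map D.subtype).to_le ?_
        rw [Subgroup.zpowers_le]
        exact Subgroup.mem_map_of_mem _ hx
      have hle' : Subgroup.zpowers (x : G) ≤ Subgroup.normalizer (P : Set G) :=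
        Subgroup.zpowers_le.mpr (hnorm x.2)
      have hsup := hPp.to_sup_of_normal_left' hxp hle'
      obtain ⟨S, hS⟩ := hsup.exists_le_sylow
      have hPS : P = (S : Subgroup G) := by
        refine le_antisymm (le_sup_left.trans hS) (Subgroup.relIndex_eq_one.mp ?_)
        obtain ⟨k, hk⟩ := S.2.exists_card_eq
        obtain ⟨j, -, hj⟩ := (Nat.dvd_prime_pow p.2).mp (hk ▸ P.relIndex_dvd_card (S : Subgroup G))
        rcases Nat.eq_zero_or_pos j with rfl | hj0
        · exact hj.trans (pow_zero _)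
        · exact absurd ((dvd_pow_self (p : ℕ) hj0.ne').trans (hj ▸
            Subgroup.relIndex_dvd_index_of_le (le_sup_left.trans hS))) hnot
      rw [Subgroup.mem_subgroupOf, hPS]
      exact hS (le_sup_right (a := P) (Subgroup.mem_zpowers _))
    refine (Q.3 ?_ hle).symm
    exact hPp.comap_of_injective D.subtype D.subtype_injective
  rw [hQ]
  exact Subgroup.normal_subgroupOf_iff_le_normalizer_inf.mpr
    ((le_inf hnorm Subgroup.le_normalizer).trans Subgroup.inf_normalizer_le_normalizer_inf)

theorem map_isComplementSystem [Finite G] {G' : Type*} [Group G'] {f : G →* G'}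
    (hf : Function.Surjective f) {K : Nat.Primes → Subgroup G} (hK : Cfsg.IsComplementSystem K) :
    Cfsg.IsComplementSystem fun p => (K p).map f := fun p =>
  haveI : Finite G' := Finite.of_surjective f hf
  index_of_isPiHall p.2 (Solvable.isPiHall_map hf (isPiHall_compl hK p))

theorem systemNormalizer_map [Finite G] [Group.IsSolvable G] {K : Nat.Primes → Subgroup G}
    (hK : Cfsg.IsComplementSystem K) (N : Subgroup G) [N.Normal] :
    Cfsg.systemNormalizer (fun p => (K p).map (QuotientGroup.mk' N)) =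
      (Cfsg.systemNormalizer K).map (QuotientGroup.mk' N) := by
  refine le_antisymm (fun gbar hgbar => ?_) ?_
  swap
  · rintro _ ⟨d, hd, rfl⟩
    exact mem_systemNormalizer.mpr fun p => Subgroup.le_normalizer_map _
      (Subgroup.mem_map_of_mem _ (mem_systemNormalizer.mp hd p))
  obtain ⟨g, rfl⟩ := QuotientGroup.mk'_surjective N gbar
  rw [mem_systemNormalizer] at hgbar
  have key : ∀ p, ∃ n ∈ N, MulAut.conj n • K p = MulAut.conj g • K p := by
    intro p
    have h1 := Solvable.mem_normalizer_iff_conj_smul.mp (hgbar p)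
    rw [← Solvable.map_conj_smul] at h1
    have hgL : MulAut.conj g • K p ≤ N ⊔ K p := by
      refine (Subgroup.le_comap_map (QuotientGroup.mk' N) _).trans ?_
      rw [h1, Subgroup.comap_map_eq, QuotientGroup.ker_mk', sup_comm]
    obtain ⟨l, hl⟩ := Solvable.exists_conj_eq_isPiHall
      (Solvable.isPiHall_subgroupOf (isPiHall_compl hK p) (le_sup_right : K p ≤ N ⊔ K p))
      (Solvable.isPiHall_subgroupOf (Solvable.isPiHall_conj_smul (isPiHall_compl hK p) g) hgL)
    have h2 := congrArg (Subgroup.map (N ⊔ K p).subtype) hl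
    rw [Solvable.map_subtype_conj_smul, Subgroup.map_subgroupOf_eq_of_le le_sup_right,
      Subgroup.map_subgroupOf_eq_of_le hgL] at h2
    have hl' : (l : G) ∈ ((N ⊔ K p : Subgroup G) : Set G) := l.2
    rw [Subgroup.normal_mul] at hl'
    obtain ⟨n, hn, k, hk, hnk⟩ := hl'
    refine ⟨n, hn, ?_⟩
    rw [← h2, ← hnk, map_mul, mul_smul,
      Solvable.mem_normalizer_iff_conj_smul.mp (Subgroup.le_normalizer hk)]
  choose x hx hxg using key
  obtain ⟨n, hn, hns⟩ := (exists_common_coset N (fun p => Subgroup.normalizer (K p : Set G))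
    (relIndex_normalizer_prime hK N) (primesOf G)).2 x hx
  refine ⟨n⁻¹ * g, mem_systemNormalizer.mpr fun p => ?_, ?_⟩
  · by_cases hp : p ∈ primesOf G
    · rw [Solvable.mem_normalizer_iff_conj_smul, map_mul, mul_smul, ← hxg p,
        ← conj_smul_eq_of_mem_normalizer (hns p hp), ← mul_smul, ← map_mul, inv_mul_cancel,
        map_one, one_smul]
    · rw [mem_primesOf] at hp
      rw [eq_top_of_not_dvd hK hp, Solvable.mem_normalizer_iff_conj_smul]
      exact Subgroup.Normal.conj_smul_eq_self _ ⊤
  · have h0 : QuotientGroup.mk' N n = 1 := (QuotientGroup.eq_one_iff n).mpr hn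
    rw [map_mul, map_inv, h0, inv_one, one_mul]

/-- A system normalizer avoids eccentric minimal normal subgroups. -/
theorem inf_eq_bot_of_eccentric [Finite G] [Group.IsSolvable G] {K : Nat.Primes → Subgroup G}
    (hK : Cfsg.IsComplementSystem K) {B : Subgroup G} [B.Normal] (hB : B ≠ ⊥)
    (hmin : ∀ M : Subgroup G, M.Normal → M ≤ B → M = ⊥ ∨ M = B)
    (hec : ⁅B, (⊤ : Subgroup G)⁆ ≠ ⊥) : B ⊓ Cfsg.systemNormalizer K = ⊥ := by
  obtain ⟨p, hp, hBp⟩ := Solvable.exists_isPGroup_of_minimal_normal hB hmin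
  have := Fact.mk hp
  set C := Subgroup.centralizer (B : Set G) with hC
  have : C.Normal := inferInstance
  have hCtop : C ≠ ⊤ := fun h => hec (Subgroup.commutator_eq_bot_iff_le_centralizer.mpr
    (Subgroup.le_centralizer_iff.mp (h ▸ le_refl C)))
  have : Nontrivial (G ⧸ C) := QuotientGroup.nontrivial_iff.mpr hCtop
  obtain ⟨L, hLn, hLne, hLmin⟩ := Solvable.exists_minimal_normal (G := G ⧸ C)
  obtain ⟨q, hq, hLq⟩ := Solvable.exists_isPGroup_of_minimal_normal hLne hLmin
  set R := L.comap (QuotientGroup.mk' C) with hR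
  have : R.Normal := hLn.comap _
  have hCR : C ≤ R := by
    have := (QuotientGroup.mk' C).ker_le_comap L
    rwa [QuotientGroup.ker_mk'] at this
  have hRC : ¬ R ≤ C := fun h => hLne (by
    rw [← Subgroup.map_comap_eq_self_of_surjective (QuotientGroup.mk'_surjective C) L, ← hR,
      le_antisymm h hCR, QuotientGroup.map_mk'_self])
  -- the fixed points of `R` on `B` are trivial
  have hfix : B ⊓ Subgroup.centralizer (R : Set G) = ⊥ := by
    rcases hmin _ inferInstance (inf_le_left (b := Subgroup.centralizer (R : Set G))) with h | h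
    · exact h
    · exact absurd (Subgroup.le_centralizer_iff.mp (inf_eq_left.mp h)) hRC
  have hBC : B ≤ Subgroup.centralizer (C : Set G) := Subgroup.le_centralizer_iff.mp le_rfl
  rcases eq_or_ne q p with rfl | hqp
  · exfalso
    obtain ⟨S⟩ : Nonempty (Sylow q R) := inferInstance
    set P := (S : Subgroup R).map R.subtype with hP
    have hPR : P ≤ R := Subgroup.map_subtype_le _
    have hsub : (C ⊔ P).subgroupOf R = ⊤ := by
      rw [← Subgroup.index_eq_one]
      have hS : (S : Subgroup R) ≤ (C ⊔ P).subgroupOf R := fun x hx =>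
        Subgroup.mem_sup_right (Subgroup.mem_map_of_mem _ hx)
      have h1 : ((C ⊔ P).subgroupOf R).index ∣ C.relIndex R :=
        Subgroup.relIndex_dvd_of_le_left R le_sup_left
      have h2 : C.relIndex R = Nat.card L := by
        rw [← Subgroup.map_comap_eq_self_of_surjective (QuotientGroup.mk'_surjective C) L, ← hR,
          ← Subgroup.relIndex_ker, QuotientGroup.ker_mk']
      obtain ⟨k, hk⟩ := hLq.exists_card_eq
      obtain ⟨j, -, hj⟩ := (Nat.dvd_prime_pow hq).mp (hk ▸ h2 ▸ h1)
      rcases Nat.eq_zero_or_pos j with rfl | hj0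
      · exact hj.trans (pow_zero _)
      · exact absurd ((dvd_pow_self q hj0.ne').trans (hj ▸ Subgroup.index_dvd_of_le hS))
          S.not_dvd_index
    have hRP : R ≤ C ⊔ P := Subgroup.subgroupOf_eq_top.mp hsub
    have hW : IsPGroup q (B ⊔ P : Subgroup G) :=
      hBp.to_sup_of_normal_left' (S.2.map R.subtype) Subgroup.le_normalizer_of_normal
    have : Group.IsNilpotent (B ⊔ P : Subgroup G) := hW.isNilpotent
    have h3 := Solvable.inf_center_ne_bot (G := (B ⊔ P : Subgroup G))
      (N := B.subgroupOf (B ⊔ P)) fun h => hB (by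
        rwa [Subgroup.subgroupOf_eq_bot, disjoint_iff,
          inf_eq_left.mpr (le_sup_left : B ≤ B ⊔ P)] at h)
    obtain ⟨x, hx, hx1⟩ := (Subgroup.bot_or_exists_ne_one _).resolve_left h3
    refine hx1 (Subtype.ext ?_)
    have : (x : G) ∈ B ⊓ Subgroup.centralizer (R : Set G) := by
      refine ⟨hx.1, Subgroup.centralizer_le hRP ?_⟩
      refine Subgroup.le_centralizer_iff.mp (sup_le ?_ ?_) (Subgroup.mem_zpowers (x : G))
      · exact Subgroup.le_centralizer_iff.mp
          ((Subgroup.zpowers_le.mpr (show (x : G) ∈ B from hx.1)).trans hBC)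
      · intro y hy
        refine Subgroup.mem_centralizer_iff.mpr fun z hz => ?_
        obtain ⟨k, rfl⟩ := Subgroup.mem_zpowers_iff.mp hz
        have hc : Commute (x : G) y := (congrArg Subtype.val
          (Subgroup.mem_center_iff.mp hx.2 ⟨y, Subgroup.mem_sup_right hy⟩)).symm
        exact (hc.zpow_left k).eq
    rwa [hfix, Subgroup.mem_bot] at this
  · have hqc : Cfsg.IsPiSubgroup (compl p) L := Solvable.piNat_of_isPGroup hq hqp hLq
    have hRK : R ≤ C ⊔ K ⟨p, hp⟩ := by
      refine (Subgroup.comap_mono (Solvable.le_isPiHall_of_normal (Solvable.isPiHall_map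
        (QuotientGroup.mk'_surjective C) (isPiHall_compl hK ⟨p, hp⟩)) hqc)).trans ?_
      rw [Subgroup.comap_map_eq, QuotientGroup.ker_mk', sup_comm]
    have hBK : Disjoint B (K ⟨p, hp⟩) := by
      refine Subgroup.disjoint_of_coprime_natCard (Nat.Coprime.symm ?_)
      exact Solvable.coprime_of_piNat (isPiHall_compl hK ⟨p, hp⟩).1 fun r hr hrp hrB =>
        hrp (by
          obtain ⟨k, hk⟩ := hBp.exists_card_eq
          rw [hk] at hrB
          exact (Nat.prime_dvd_prime_iff_eq hr hp).mp (hr.dvd_of_dvd_pow hrB))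
    refine le_bot_iff.mp (fun b hb => ?_)
    rw [← hfix]
    refine ⟨hb.1, ?_⟩
    have hbK : b ∈ Subgroup.centralizer ((K ⟨p, hp⟩ : Subgroup G) : Set G) := by
      refine Subgroup.mem_centralizer_iff.mpr fun k hk => ?_
      have h1 : b * k * b⁻¹ * k⁻¹ ∈ B := by
        rw [mul_assoc, mul_assoc, ← mul_assoc k]
        exact mul_mem hb.1 (Subgroup.Normal.conj_mem inferInstance _ (inv_mem hb.1) k)
      have h2 : b * k * b⁻¹ * k⁻¹ ∈ K ⟨p, hp⟩ :=
        mul_mem ((Subgroup.mem_normalizer_iff.mp (mem_systemNormalizer.mp hb.2 _) k).mp hk)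
          (inv_mem hk)
      have h3 := Subgroup.disjoint_def.mp hBK h1 h2
      rw [mul_inv_eq_one, mul_inv_eq_iff_eq_mul] at h3
      exact h3.symm
    refine Subgroup.centralizer_le hRK (Subgroup.le_centralizer_iff.mp ?_ (Subgroup.mem_zpowers b))
    exact sup_le (Subgroup.le_centralizer_iff.mp
      ((Subgroup.zpowers_le.mpr hb.1).trans hBC))
      (Subgroup.le_centralizer_iff.mp (Subgroup.zpowers_le.mpr hbK))

theorem covers_avoids [Finite G] [Group.IsSolvable G] {K : Nat.Primes → Subgroup G}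
    (hK : Cfsg.IsComplementSystem K) {A B : Subgroup G} [A.Normal] [B.Normal] (hAB : A < B)
    (hchief : ∀ N : Subgroup G, N.Normal → A ≤ N → N ≤ B → N = A ∨ N = B) :
    (⁅B, (⊤ : Subgroup G)⁆ ≤ A → B ≤ A ⊔ Cfsg.systemNormalizer K) ∧
      (¬ ⁅B, (⊤ : Subgroup G)⁆ ≤ A → B ⊓ Cfsg.systemNormalizer K ≤ A) := by
  set f := QuotientGroup.mk' A with hf
  have hfs : Function.Surjective f := QuotientGroup.mk'_surjective A
  have hiff : ⁅B.map f, (⊤ : Subgroup (G ⧸ A))⁆ = ⊥ ↔ ⁅B, (⊤ : Subgroup G)⁆ ≤ A := by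
    rw [← Subgroup.map_top_of_surjective f hfs, ← Subgroup.map_commutator,
      Subgroup.map_eq_bot_iff, hf, QuotientGroup.ker_mk']
  refine ⟨fun hc => ?_, fun hc => ?_⟩
  · have h1 := le_systemNormalizer_of_central (K := fun p => (K p).map f) (hiff.mpr hc)
    rw [systemNormalizer_map hK A] at h1
    refine (Subgroup.le_comap_map f B).trans ((Subgroup.comap_mono h1).trans ?_)
    rw [Subgroup.comap_map_eq, hf, QuotientGroup.ker_mk', sup_comm]
  · have : (B.map f).Normal := Subgroup.Normal.map inferInstance f hfs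
    have hne : B.map f ≠ ⊥ := fun h => hAB.not_ge (by
      rwa [Subgroup.map_eq_bot_iff, hf, QuotientGroup.ker_mk'] at h)
    have hmin : ∀ M : Subgroup (G ⧸ A), M.Normal → M ≤ B.map f → M = ⊥ ∨ M = B.map f := by
      intro M hM hle
      rcases hchief (M.comap f) (hM.comap f) (by
        have := f.ker_le_comap M; rwa [QuotientGroup.ker_mk'] at this)
        ((Subgroup.comap_mono hle).trans (by
          rw [Subgroup.comap_map_eq, hf, QuotientGroup.ker_mk', sup_eq_left.mpr hAB.le])) with h | h
      · left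
        rw [← Subgroup.map_comap_eq_self_of_surjective hfs M, h, hf, QuotientGroup.map_mk'_self]
      · right
        rw [← Subgroup.map_comap_eq_self_of_surjective hfs M, h]
    have h2 := inf_eq_bot_of_eccentric (map_isComplementSystem hfs hK) hne hmin
      (fun h => hc (hiff.mp h))
    rw [systemNormalizer_map hK A] at h2
    have h3 := le_bot_iff.mp ((Subgroup.map_inf_le B (Cfsg.systemNormalizer K) f).trans h2.le)
    rwa [Subgroup.map_eq_bot_iff, hf, QuotientGroup.ker_mk'] at h3

theorem normalClosure_eq_top [Finite G] [Group.IsSolvable G] {K : Nat.Primes → Subgroup G}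
    (hK : Cfsg.IsComplementSystem K) :
    Subgroup.normalClosure ((Cfsg.systemNormalizer K : Subgroup G) : Set G) = ⊤ := by
  by_contra hne
  obtain ⟨M, ⟨hMn, hMle, hMtop⟩, hmax⟩ := Set.Finite.exists_maximal
    (s := {M : Subgroup G | M.Normal ∧
      Subgroup.normalClosure ((Cfsg.systemNormalizer K : Subgroup G) : Set G) ≤ M ∧ M ≠ ⊤})
    (Set.toFinite _) ⟨_, Subgroup.normalClosure_normal, le_rfl, hne⟩
  have hchief : ∀ N : Subgroup G, N.Normal → M ≤ N → N ≤ ⊤ → N = M ∨ N = ⊤ :=
    fun N hN hMN _ => or_iff_not_imp_right.mpr fun hNt =>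
      le_antisymm (hmax ⟨hN, hMle.trans hMN, hNt⟩ hMN) hMN
  have hD : Cfsg.systemNormalizer K ≤ M :=
    (Subgroup.le_normalClosure).trans hMle
  have hcentral : ⁅(⊤ : Subgroup G), (⊤ : Subgroup G)⁆ ≤ M := by
    rcases hchief (⁅(⊤ : Subgroup G), (⊤ : Subgroup G)⁆ ⊔ M) inferInstance le_sup_right le_top
      with h | h
    · exact le_sup_left.trans h.le
    · exfalso
      have : Nontrivial (G ⧸ M) := QuotientGroup.nontrivial_iff.mpr hMtop
      refine (Group.IsSolvable.commutator_lt_top_of_nontrivial (G := G ⧸ M)).ne ?_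
      rw [commutator_def, ← Subgroup.map_top_of_surjective (QuotientGroup.mk' M)
        (QuotientGroup.mk'_surjective M), ← Subgroup.map_commutator]
      conv_rhs => rw [← h, Subgroup.map_sup, QuotientGroup.map_mk'_self, sup_bot_eq]
  have := (covers_avoids hK (lt_top_iff_ne_top.mpr hMtop) hchief).1 hcentral
  rw [sup_eq_left.mpr hD] at this
  exact hMtop (top_le_iff.mp this)

end CfsgLib.SystemNormalizer
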