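import Cfsg.Agent.SystemNormalizer.Basic

/-!
Carter subgroups of finite solvable groups and their relation to system normalizers.
-/

open Pointwise

namespace CfsgLib.SystemNormalizer

universe u

variable {G : Type u} [Group G]

theorem isCarter_conj {C : Subgroup G} (hC : Cfsg.IsCarterSubgroup C) (g : G) :
    Cfsg.IsCarterSubgroup (MulAut.conj g • C : Subgroup G) := by
  refine ⟨?_, le_antisymm (fun x hx => ?_) Subgroup.le_normalizer⟩
  · have := hC.1
    exact Group.nilpotent_of_mulEquiv (Subgroup.equivSMul (MulAut.conj g) C)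
  · rw [Solvable.mem_normalizer_iff_conj_smul, ← mul_smul, ← map_mul] at hx
    rw [Solvable.mem_conj_smul, ← hC.2, Solvable.mem_normalizer_iff_conj_smul]
    rw [show g⁻¹ * x * g = g⁻¹ * (x * g) by group, map_mul, mul_smul, hx, ← mul_smul, ← map_mul,
      inv_mul_cancel, map_one, one_smul]

theorem isCarter_subgroupOf {C H : Subgroup G} (hC : Cfsg.IsCarterSubgroup C) (hle : C ≤ H) :
    Cfsg.IsCarterSubgroup (C.subgroupOf H) := by
  refine ⟨?_, le_antisymm (fun x hx => ?_) Subgroup.le_normalizer⟩
  · have := hC.1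
    exact Group.nilpotent_of_mulEquiv (Subgroup.subgroupOfEquivOfLe hle).symm
  · rw [Solvable.mem_normalizer_iff_conj_smul] at hx
    have h := congrArg (Subgroup.map H.subtype) hx
    rw [Solvable.map_subtype_conj_smul, Subgroup.map_subgroupOf_eq_of_le hle,
      ← Solvable.mem_normalizer_iff_conj_smul, hC.2] at h
    exact h

theorem eq_top_of_isNilpotent [Group.IsNilpotent G] {C : Subgroup G}
    (hC : Subgroup.normalizer (C : Set G) = C) : C = ⊤ := by
  by_contra h
  exact (Group.normalizerCondition_of_isNilpotent C (lt_top_iff_ne_top.mpr h)).ne hC.symm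

variable [Finite G]

theorem eq_of_le_of_card_conj {A : Subgroup G} {g : G} (h : A ≤ MulAut.conj g • A) :
    MulAut.conj g • A = A :=
  (Subgroup.eq_of_le_of_card_ge h (Solvable.card_conj_smul g A).le).symm

theorem hall_normalizer_self {π : Set ℕ} {Q : Subgroup G} (hQ : Cfsg.IsPiHall π Q) :
    Subgroup.normalizer ((Subgroup.normalizer (Q : Set G) : Subgroup G) : Set G) =
      Subgroup.normalizer (Q : Set G) := by
  set M := Subgroup.normalizer (Q : Set G) with hM
  refine le_antisymm (fun g hg => ?_) Subgroup.le_normalizer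
  rw [Solvable.mem_normalizer_iff_conj_smul] at hg
  rw [hM, Solvable.mem_normalizer_iff_conj_smul]
  have hgQ : MulAut.conj g • Q ≤ M := by
    rw [← hg]
    exact Subgroup.pointwise_smul_le_pointwise_smul_iff.mpr Subgroup.le_normalizer
  have : (Q.subgroupOf M).Normal := Subgroup.normal_in_normalizer
  have h := Solvable.le_isPiHall_of_normal (N := Q.subgroupOf M)
    (Solvable.isPiHall_subgroupOf (Solvable.isPiHall_conj_smul hQ g) hgQ)
    (Solvable.isPiHall_subgroupOf hQ Subgroup.le_normalizer).1
  refine eq_of_le_of_card_conj ?_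
  exact fun x hx => h (show (⟨x, Subgroup.le_normalizer hx⟩ : M) ∈ Q.subgroupOf M from hx)

theorem normal_of_isPiHall_nilpotent [Group.IsNilpotent G] {π : Set ℕ} {Q : Subgroup G}
    (hQ : Cfsg.IsPiHall π Q) : Q.Normal :=
  Subgroup.normalizer_eq_top_iff.mp (eq_top_of_isNilpotent (hall_normalizer_self hQ))

/-- A group with a normal Hall `p'`-subgroup meeting `N` trivially and `G/N` nilpotent is
nilpotent. -/
theorem isNilpotent_of_normal_hall {p : ℕ} (hp : p.Prime) {N Q : Subgroup G} [N.Normal]
    [Q.Normal] (hQ : Cfsg.IsPiHall (compl p) Q) (hNQ : N ⊓ Q = ⊥)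
    (hGN : Group.IsNilpotent (G ⧸ N)) : Group.IsNilpotent G := by
  have := Fact.mk hp
  have hQp : IsPGroup p (G ⧸ Q) :=
    IsPGroup.of_card (n := Q.index.primeFactorsList.length)
      (Nat.eq_prime_pow_of_unique_prime_dvd Subgroup.index_ne_zero_of_finite fun {d} hd hdi =>
        by_contra fun hne => hQ.2 d hd hne hdi)
  have : Group.IsNilpotent (G ⧸ Q) := hQp.isNilpotent
  refine Subgroup.isNilpotent_of_ker_le_center ((QuotientGroup.mk' N).prod (QuotientGroup.mk' Q))
    (fun x hx => ?_)
  suffices x = 1 by rw [this]; exact Subgroup.one_mem _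
  have h1 := congrArg Prod.fst hx
  have h2 := congrArg Prod.snd hx
  have : x ∈ N ⊓ Q := ⟨(QuotientGroup.eq_one_iff x).mp h1, (QuotientGroup.eq_one_iff x).mp h2⟩
  rwa [hNQ, Subgroup.mem_bot] at this

omit [Finite G] in
theorem inf_normal_of_sup_eq_top {C N : Subgroup G} [N.Normal] [IsMulCommutative N]
    (h : C ⊔ N = ⊤) : (C ⊓ N).Normal := by
  rw [← Subgroup.normalizer_eq_top_iff, ← top_le_iff, ← h]
  refine sup_le ((le_inf Subgroup.le_normalizer Subgroup.le_normalizer_of_normal).trans
    Subgroup.inf_normalizer_le_normalizer_inf) fun n hn => ?_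
  exact Subgroup.centralizer_le_normalizer _ (Subgroup.mem_centralizer_iff.mpr fun y hy =>
    setLike_mul_comm (s := N) hy.2 hn)

omit [Finite G] in
/-- A supplement of an abelian minimal normal subgroup is a complement and maximal. -/
theorem complement_of_sup_eq_top {C N : Subgroup G} [N.Normal] [IsMulCommutative N]
    (hmin : ∀ K : Subgroup G, K.Normal → K ≤ N → K = ⊥ ∨ K = N) (h : C ⊔ N = ⊤) (hC : C ≠ ⊤) :
    C ⊓ N = ⊥ ∧ IsCoatom C := by
  have key : ∀ M : Subgroup G, C ≤ M → M ≠ ⊤ → M ⊓ N = ⊥ := by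
    intro M hCM hM
    have hsup : M ⊔ N = ⊤ := top_le_iff.mp (h ▸ sup_le_sup_right hCM N)
    rcases hmin _ (inf_normal_of_sup_eq_top hsup) inf_le_right with e | e
    · exact e
    · rw [sup_eq_left.mpr (inf_eq_right.mp e)] at hsup
      exact absurd hsup hM
  refine ⟨key C le_rfl hC, hC, fun M hCM => by_contra fun hM => hCM.not_ge fun x hx => ?_⟩
  have hx' : x ∈ ((C ⊔ N : Subgroup G) : Set G) := by rw [h]; trivial
  rw [Subgroup.mul_normal] at hx'
  obtain ⟨c, hc, n, hn, rfl⟩ := hx'
  have : n ∈ M ⊓ N := ⟨by simpa using mul_mem (inv_mem (hCM.le hc)) hx, hn⟩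
  rw [key M hCM.le hM, Subgroup.mem_bot] at this
  simpa [this] using hc

/-- The case `G = C N` of the theory of Carter subgroups: `C` is the normalizer of its Hall
`p'`-subgroup. -/
theorem carter_step {p : ℕ} (hp : p.Prime) {C N : Subgroup G} [N.Normal] [IsMulCommutative N]
    (hN : IsPGroup p N) (hmin : ∀ K : Subgroup G, K.Normal → K ≤ N → K = ⊥ ∨ K = N)
    (hC : Cfsg.IsCarterSubgroup C) (h : C ⊔ N = ⊤) (hCtop : C ≠ ⊤)
    {Q : Subgroup G} (hQC : Q ≤ C) (hQ : Cfsg.IsPiHall (compl p) (Q.subgroupOf C)) :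
    Cfsg.IsPiHall (compl p) Q ∧ Subgroup.normalizer (Q : Set G) = C := by
  obtain ⟨hd, hco⟩ := complement_of_sup_eq_top hmin h hCtop
  have hidx : C.index = Nat.card N := by
    have h1 := Solvable.card_sup_of_disjoint N C (disjoint_iff.mpr hd)
    rw [h, Subgroup.card_top, ← C.card_mul_index] at h1
    exact Nat.eq_of_mul_eq_mul_left Nat.card_pos h1
  have hQhall : Cfsg.IsPiHall (compl p) Q := by
    refine ⟨?_, fun q hq hqc hqi => ?_⟩
    · rw [← Nat.card_congr (Subgroup.subgroupOfEquivOfLe hQC).toEquiv]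
      exact hQ.1
    · rw [← Subgroup.relIndex_mul_index hQC, hidx] at hqi
      rcases hq.dvd_mul.mp hqi with h' | h'
      · exact hQ.2 q hq hqc h'
      · obtain ⟨k, hk⟩ := (have := Fact.mk hp; hN.exists_card_eq)
        rw [hk] at h'
        exact hqc ((Nat.prime_dvd_prime_iff_eq hq hp).mp (hq.dvd_of_dvd_pow h'))
  refine ⟨hQhall, ?_⟩
  have := hC.1
  have hn : (Q.subgroupOf C).Normal := normal_of_isPiHall_nilpotent hQ
  have hle : C ≤ Subgroup.normalizer (Q : Set G) :=
    (Subgroup.normal_subgroupOf_iff_le_normalizer hQC).mp hn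
  rcases hle.eq_or_lt with e | e
  · exact e.symm
  · exfalso
    have := Subgroup.normalizer_eq_top_iff.mp (hco.2 _ e)
    have hNQ : N ⊓ Q = ⊥ :=
      le_bot_iff.mp ((inf_le_inf le_rfl hQC).trans (inf_comm N C ▸ hd.le))
    have hGN : Group.IsNilpotent (G ⧸ N) := by
      have hsurj : Function.Surjective ((QuotientGroup.mk' N).comp C.subtype) := by
        intro y
        obtain ⟨x, rfl⟩ := QuotientGroup.mk'_surjective N y
        have hx : x ∈ ((C ⊔ N : Subgroup G) : Set G) := by rw [h]; trivial
        rw [Subgroup.mul_normal] at hx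
        obtain ⟨c, hc, n, hn, rfl⟩ := hx
        refine ⟨⟨c, hc⟩, ?_⟩
        have h0 : QuotientGroup.mk' N n = 1 := (QuotientGroup.eq_one_iff n).mpr hn
        rw [map_mul, h0, mul_one]
        rfl
      exact Group.nilpotent_of_surjective _ hsurj
    have := isNilpotent_of_normal_hall hp hQhall hNQ hGN
    exact hCtop (eq_top_of_isNilpotent hC.2)

theorem isCarter_map_aux {C : Subgroup G} (hC : Cfsg.IsCarterSubgroup C) (N : Subgroup G)
    [N.Normal]
    (hconj : C ⊔ N ≠ ⊤ → ∀ C₁ C₂ : Subgroup ↥(C ⊔ N : Subgroup G), Cfsg.IsCarterSubgroup C₁ →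
      Cfsg.IsCarterSubgroup C₂ → ∃ g : ↥(C ⊔ N : Subgroup G), MulAut.conj g • C₁ = C₂) :
    Cfsg.IsCarterSubgroup (C.map (QuotientGroup.mk' N)) := by
  set f := QuotientGroup.mk' N with hf
  have := hC.1
  refine ⟨Group.nilpotent_of_surjective _ (f.subgroupMap_surjective C), ?_⟩
  refine le_antisymm (fun y hy => ?_) Subgroup.le_normalizer
  have hcomap : (C.map f).comap f = C ⊔ N := by
    rw [Subgroup.comap_map_eq, hf, QuotientGroup.ker_mk']
  obtain ⟨g, rfl⟩ := QuotientGroup.mk'_surjective N y
  change g ∈ (C.map f).comap f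
  rw [hcomap]
  by_cases htop : C ⊔ N = ⊤
  · rw [htop]; trivial
  rw [Solvable.mem_normalizer_iff_conj_smul, ← Solvable.map_conj_smul] at hy
  have hgC : MulAut.conj g • C ≤ C ⊔ N := by
    refine (Subgroup.le_comap_map f _).trans ?_
    rw [hy, hcomap]
  obtain ⟨h, hh⟩ := hconj htop _ _ (isCarter_subgroupOf (isCarter_conj hC g) hgC)
    (isCarter_subgroupOf hC le_sup_left)
  have h2 := congrArg (Subgroup.map (C ⊔ N).subtype) hh
  rw [Solvable.map_subtype_conj_smul, Subgroup.map_subgroupOf_eq_of_le hgC,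
    Subgroup.map_subgroupOf_eq_of_le le_sup_left, ← mul_smul, ← map_mul,
    ← Solvable.mem_normalizer_iff_conj_smul, hC.2] at h2
  simpa using mul_mem (inv_mem h.2) (Subgroup.mem_sup_left (T := N) h2)

omit [Finite G] in
private theorem conjugate_aux : ∀ (n : ℕ) (G : Type u) [Group G] [Finite G] [Group.IsSolvable G],
    Nat.card G < n → ∀ C D : Subgroup G, Cfsg.IsCarterSubgroup C → Cfsg.IsCarterSubgroup D →
      ∃ g : G, MulAut.conj g • C = D := by
  intro n
  induction n with
  | zero => intro G _ _ _ h; exact absurd h (Nat.not_lt_zero _)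
  | succ n ih =>
    intro G _ _ _ hn C D hC hD
    rcases subsingleton_or_nontrivial G with hs | hs
    · exact ⟨1, Subsingleton.elim _ _⟩
    obtain ⟨N, hN, hne, hmin⟩ := Solvable.exists_minimal_normal (G := G)
    have := Solvable.isMulCommutative_of_minimal_normal hne hmin
    obtain ⟨p, hp, hNp⟩ := Solvable.exists_isPGroup_of_minimal_normal hne hmin
    have hlt : ∀ H : Subgroup G, H ≠ ⊤ → Nat.card H < n := fun H hH =>
      lt_of_lt_of_le (lt_of_le_of_ne (Nat.le_of_dvd Nat.card_pos H.card_subgroup_dvd_card)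
        fun e => hH (Subgroup.eq_top_of_card_eq H e)) (Nat.lt_succ_iff.mp hn)
    have hmap : ∀ C : Subgroup G, Cfsg.IsCarterSubgroup C →
        Cfsg.IsCarterSubgroup (C.map (QuotientGroup.mk' N)) := fun C hC =>
      isCarter_map_aux hC N fun h => ih _ (hlt _ h)
    have hq : Nat.card (G ⧸ N) < n := by
      refine lt_of_lt_of_le ?_ (Nat.lt_succ_iff.mp hn)
      rw [N.card_eq_card_quotient_mul_card_subgroup]
      exact (Nat.lt_mul_iff_one_lt_right Nat.card_pos).mpr (Subgroup.one_lt_card_iff_ne_bot N |>.mpr hne)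
    obtain ⟨y, hy⟩ := ih (G ⧸ N) hq _ _ (hmap C hC) (hmap D hD)
    obtain ⟨g, rfl⟩ := QuotientGroup.mk'_surjective N y
    rw [← Solvable.map_conj_smul] at hy
    have hsup : MulAut.conj g • C ⊔ N = D ⊔ N := by
      have := congrArg (Subgroup.comap (QuotientGroup.mk' N)) hy
      rwa [Subgroup.comap_map_eq, Subgroup.comap_map_eq, QuotientGroup.ker_mk'] at this
    have hC' := isCarter_conj hC g
    suffices ∃ x, MulAut.conj x • (MulAut.conj g • C) = D by
      obtain ⟨x, hx⟩ := this
      exact ⟨x * g, by rw [map_mul, mul_smul, hx]⟩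
    generalize MulAut.conj g • C = C' at hC' hsup
    by_cases htop : D ⊔ N = ⊤
    · by_cases hCt : C' = ⊤
      · subst hCt
        have : Group.IsNilpotent G := by
          have := hC'.1
          exact Group.nilpotent_of_mulEquiv Subgroup.topEquiv
        exact ⟨1, by rw [map_one, one_smul, eq_top_of_isNilpotent hD.2]⟩
      by_cases hDt : D = ⊤
      · subst hDt
        have : Group.IsNilpotent G := by
          have := hD.1
          exact Group.nilpotent_of_mulEquiv Subgroup.topEquiv
        exact absurd (eq_top_of_isNilpotent hC'.2) hCt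
      obtain ⟨Q, hQ⟩ := Solvable.exists_isPiHall (compl p) C'
      obtain ⟨R, hR⟩ := Solvable.exists_isPiHall (compl p) D
      obtain ⟨hQ1, hQ2⟩ := carter_step hp hNp hmin hC' (hsup.trans htop) hCt
        (Subgroup.map_subtype_le Q) (by rwa [← Subgroup.comap_subtype,
          Subgroup.comap_map_eq_self_of_injective C'.subtype_injective])
      obtain ⟨hR1, hR2⟩ := carter_step hp hNp hmin hD htop hDt
        (Subgroup.map_subtype_le R) (by rwa [← Subgroup.comap_subtype,
          Subgroup.comap_map_eq_self_of_injective D.subtype_injective])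
      obtain ⟨x, hx⟩ := Solvable.exists_conj_eq_isPiHall hQ1 hR1
      refine ⟨x, ?_⟩
      rw [← hQ2, ← hR2, ← hx]
      ext y
      rw [Solvable.mem_conj_smul, Solvable.mem_normalizer_iff_conj_smul,
        Solvable.mem_normalizer_iff_conj_smul, mul_assoc, map_mul, map_mul, mul_smul, mul_smul,
        map_inv, inv_smul_eq_iff]
    · obtain ⟨x, hx⟩ := ih _ (hlt _ htop) _ _
        (isCarter_subgroupOf hC' (hsup ▸ le_sup_left : C' ≤ D ⊔ N))
        (isCarter_subgroupOf hD (le_sup_left : D ≤ D ⊔ N))
      have h2 := congrArg (Subgroup.map (D ⊔ N).subtype) hx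
      rw [Solvable.map_subtype_conj_smul,
        Subgroup.map_subgroupOf_eq_of_le (hsup ▸ le_sup_left : C' ≤ D ⊔ N),
        Subgroup.map_subgroupOf_eq_of_le le_sup_left] at h2
      exact ⟨x, h2⟩

/-- Carter subgroups of a finite solvable group are conjugate. -/
theorem carter_conj [Group.IsSolvable G] {C D : Subgroup G} (hC : Cfsg.IsCarterSubgroup C)
    (hD : Cfsg.IsCarterSubgroup D) : ∃ g : G, MulAut.conj g • C = D :=
  conjugate_aux _ G (Nat.lt_succ_self _) C D hC hD

/-- Images of Carter subgroups are Carter subgroups. -/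
theorem isCarter_map [Group.IsSolvable G] {C : Subgroup G} (hC : Cfsg.IsCarterSubgroup C)
    (N : Subgroup G) [N.Normal] : Cfsg.IsCarterSubgroup (C.map (QuotientGroup.mk' N)) :=
  isCarter_map_aux hC N fun _ _ _ h₁ h₂ => carter_conj h₁ h₂

omit [Finite G] in
private theorem exists_aux : ∀ (n : ℕ) (G : Type u) [Group G] [Finite G] [Group.IsSolvable G],
    Nat.card G < n → ∃ C : Subgroup G, Cfsg.IsCarterSubgroup C := by
  intro n
  induction n with
  | zero => intro G _ _ _ h; exact absurd h (Nat.not_lt_zero _)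
  | succ n ih =>
    intro G _ _ _ hn
    rcases subsingleton_or_nontrivial G with hs | hs
    · have : Group.IsNilpotent (⊤ : Subgroup G) := inferInstance
      exact ⟨⊤, this, Subsingleton.elim _ _⟩
    obtain ⟨N, hN, hne, hmin⟩ := Solvable.exists_minimal_normal (G := G)
    have := Solvable.isMulCommutative_of_minimal_normal hne hmin
    obtain ⟨p, hp, hNp⟩ := Solvable.exists_isPGroup_of_minimal_normal hne hmin
    have hq : Nat.card (G ⧸ N) < n := by
      refine lt_of_lt_of_le ?_ (Nat.lt_succ_iff.mp hn)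
      rw [N.card_eq_card_quotient_mul_card_subgroup]
      exact (Nat.lt_mul_iff_one_lt_right Nat.card_pos).mpr (Subgroup.one_lt_card_iff_ne_bot N |>.mpr hne)
    obtain ⟨Cb, hCb⟩ := ih (G ⧸ N) hq
    set f := QuotientGroup.mk' N with hf
    set H := Cb.comap f with hH
    have hNH : N ≤ H := by
      have := f.ker_le_comap Cb
      rwa [QuotientGroup.ker_mk'] at this
    have hHmap : H.map f = Cb :=
      Subgroup.map_comap_eq_self_of_surjective (QuotientGroup.mk'_surjective N) Cb
    by_cases htop : H = ⊤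
    · have hGN : Group.IsNilpotent (G ⧸ N) := by
        rw [htop, Subgroup.map_top_of_surjective _ (QuotientGroup.mk'_surjective N)] at hHmap
        have := hCb.1
        subst hHmap
        exact Group.nilpotent_of_mulEquiv Subgroup.topEquiv
      by_cases hnil : Group.IsNilpotent G
      · have : Group.IsNilpotent (⊤ : Subgroup G) := inferInstance
        exact ⟨⊤, this, top_le_iff.mp (Subgroup.le_normalizer (H := (⊤ : Subgroup G)))⟩
      obtain ⟨Q, hQ⟩ := Solvable.exists_isPiHall (compl p) G
      set M := Subgroup.normalizer (Q : Set G) with hM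
      have hNQ : N ⊓ Q = ⊥ := by
        refine (Subgroup.disjoint_of_coprime_natCard (Nat.Coprime.symm
          (Solvable.coprime_of_piNat hQ.1 fun r hr hrp hrN => hrp ?_))).eq_bot
        obtain ⟨k, hk⟩ := (have := Fact.mk hp; hNp.exists_card_eq)
        rw [hk] at hrN
        exact (Nat.prime_dvd_prime_iff_eq hr hp).mp (hr.dvd_of_dvd_pow hrN)
      have hMtop : M ≠ ⊤ := fun h => hnil (by
        have := Subgroup.normalizer_eq_top_iff.mp h
        exact isNilpotent_of_normal_hall hp hQ hNQ hGN)
      have hLn : (Q ⊔ N).Normal := by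
        have h1 : (Q.map f).Normal :=
          normal_of_isPiHall_nilpotent (Solvable.isPiHall_map (QuotientGroup.mk'_surjective N) hQ)
        have h2 := h1.comap f
        rwa [Subgroup.comap_map_eq, QuotientGroup.ker_mk'] at h2
      have hfr := Solvable.frattini_argument_hall (L := Q ⊔ N) inferInstance le_sup_left
        (Solvable.isPiHall_subgroupOf hQ le_sup_left)
      have hMN : M ⊔ N = ⊤ := by
        rw [← top_le_iff, ← hfr]
        exact sup_le (sup_le (Subgroup.le_normalizer.trans le_sup_left) le_sup_right) le_sup_left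
      obtain ⟨hd, -⟩ := complement_of_sup_eq_top hmin hMN hMtop
      refine ⟨M, ?_, hall_normalizer_self hQ⟩
      refine Subgroup.isNilpotent_of_ker_le_center (f.comp M.subtype) (fun x hx => ?_)
      suffices x = 1 by rw [this]; exact Subgroup.one_mem _
      have : (x : G) ∈ M ⊓ N := ⟨x.2, (QuotientGroup.eq_one_iff _).mp hx⟩
      rw [hd, Subgroup.mem_bot] at this
      exact Subtype.ext this
    · have hltH : Nat.card H < n :=
        lt_of_lt_of_le (lt_of_le_of_ne (Nat.le_of_dvd Nat.card_pos H.card_subgroup_dvd_card)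
          fun e => htop (Subgroup.eq_top_of_card_eq H e)) (Nat.lt_succ_iff.mp hn)
      obtain ⟨C, hC⟩ := ih H hltH
      have hnilH : Group.IsNilpotent (H ⧸ N.subgroupOf H) := by
        have : Group.IsNilpotent (H.map f) := hHmap.symm ▸ hCb.1
        have hk : N.subgroupOf H = (f.subgroupMap H).ker := by
          ext x
          simp [MonoidHom.mem_ker, Subtype.ext_iff, Subgroup.mem_subgroupOf, hf]
        exact Group.nilpotent_of_mulEquiv ((QuotientGroup.quotientMulEquivOfEq hk).trans
          (QuotientGroup.quotientKerEquivOfSurjective _ (f.subgroupMap_surjective H))).symm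
      have hsup : C.map H.subtype ⊔ N = H := by
        have h1 := eq_top_of_isNilpotent (isCarter_map hC (N.subgroupOf H)).2
        have h2 := congrArg (Subgroup.comap (QuotientGroup.mk' (N.subgroupOf H))) h1
        rw [Subgroup.comap_map_eq, QuotientGroup.ker_mk', Subgroup.comap_top] at h2
        have h3 := congrArg (Subgroup.map H.subtype) h2
        rwa [Subgroup.map_sup, Subgroup.map_subgroupOf_eq_of_le hNH, ← MonoidHom.range_eq_map,
          Subgroup.range_subtype] at h3
      have := hC.1
      refine ⟨C.map H.subtype, Group.nilpotent_of_mulEquiv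
        (C.equivMapOfInjective _ H.subtype_injective), ?_⟩
      refine le_antisymm (fun g hg => ?_) Subgroup.le_normalizer
      have hgH : g ∈ H := by
        change f g ∈ Cb
        rw [← hCb.2, ← hHmap, ← hsup, Subgroup.map_sup, hf, QuotientGroup.map_mk'_self, sup_bot_eq]
        exact Subgroup.le_normalizer_map _ (Subgroup.mem_map_of_mem _ hg)
      refine ⟨⟨g, hgH⟩, ?_, rfl⟩
      change (⟨g, hgH⟩ : H) ∈ C
      rw [← hC.2, Solvable.mem_normalizer_iff_conj_smul]
      apply Subgroup.map_injective H.subtype_injective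
      rw [Solvable.map_subtype_conj_smul]
      exact Solvable.mem_normalizer_iff_conj_smul.mp hg

theorem exists_carter [Group.IsSolvable G] : ∃ C : Subgroup G, Cfsg.IsCarterSubgroup C :=
  exists_aux _ G (Nat.lt_succ_self _)

end CfsgLib.SystemNormalizer
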